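import Cfsg.Agent.Lib.SECount.Basic

/-!
A subgroup with `2835` involutions, all conjugate in it to `z`, that contains the centraliser of
`z` is the whole group, unless it has a subgroup of odd order divisible by `35`.
-/

set_option autoImplicit false

namespace Cfsg.Agent.Lib.UFourThreeType

/-- A subgroup `H` containing the centraliser of an involution `z`, all of whose involutions are
`H`-conjugate to `z`, is strongly embedded as soon as it is proper. -/
theorem isStronglyEmbedded_of_centralizer_le {G : Type*} [Group G] [Finite G] {z : G}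
    (hz : orderOf z = 2) {H : Subgroup G}
    (hC : Subgroup.centralizer ({z} : Set G) ≤ H) (htop : H ≠ ⊤)
    (hone : ∀ x ∈ H, orderOf x = 2 → ∃ h ∈ H, h * z * h⁻¹ = x) :
    Cfsg.IsStronglyEmbedded H := by
  have hzH : z ∈ H := hC (Subgroup.mem_centralizer_singleton_iff.2 rfl)
  have heven : Even (Nat.card H) := by
    have hd := orderOf_dvd_natCard (⟨z, hzH⟩ : H)
    rw [Subgroup.orderOf_mk, hz] at hd
    exact even_iff_two_dvd.2 hd
  refine ⟨htop, heven, fun g hg => ?_⟩
  by_contra hev
  rw [Nat.not_odd_iff_even, even_iff_two_dvd] at hev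
  obtain ⟨w, hw⟩ := exists_prime_orderOf_dvd_card' 2 hev
  obtain ⟨x, hwx, hx⟩ : ∃ x : G, (w : G) = x ∧ orderOf x = 2 :=
    ⟨w, rfl, (Subgroup.orderOf_coe w).trans hw⟩
  have hxH : x ∈ H := hwx ▸ (Subgroup.mem_inf.1 w.2).1
  have hxK : x ∈ H.map (MulAut.conj g).toMonoidHom := hwx ▸ (Subgroup.mem_inf.1 w.2).2
  have hy : g⁻¹ * x * g ∈ H := SECount.mem_map_conj.1 hxK
  have hy2 : orderOf (g⁻¹ * x * g) = 2 := by
    have := SECount.orderOf_conj_eq g⁻¹ x
    rw [inv_inv] at this
    rw [this, hx]
  obtain ⟨a, ha, hax⟩ := hone x hxH hx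
  obtain ⟨b, hb, hby⟩ := hone _ hy hy2
  have hc : a⁻¹ * g * b ∈ Subgroup.centralizer ({z} : Set G) := by
    rw [Subgroup.mem_centralizer_singleton_iff]
    have h1 : g * (b * z * b⁻¹) * g⁻¹ = a * z * a⁻¹ := by rw [hby, hax]; group
    calc a⁻¹ * g * b * z = a⁻¹ * (g * (b * z * b⁻¹) * g⁻¹) * (g * b) := by group
      _ = z * (a⁻¹ * g * b) := by rw [h1]; group
  exact hg (by simpa [mul_assoc] using H.mul_mem (H.mul_mem ha (hC hc)) (H.inv_mem hb))

/-- If `D` is transitive by conjugation on a set `S` containing `z`, then `|S|` divides `|D|`. -/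
theorem card_dvd_of_transitive {G : Type*} [Group G] {z : G} (D : Subgroup G) (P : G → Prop)
    (hD : ∀ d ∈ D, P (d * z * d⁻¹)) (htrans : ∀ x, P x → ∃ d ∈ D, d * z * d⁻¹ = x) :
    Nat.card {x : G // P x} ∣ Nat.card D := by
  let K := (Subgroup.centralizer ({z} : Set G)).subgroupOf D
  let f : D ⧸ K → {x : G // P x} := Quotient.lift (fun d : D => ⟨(d : G) * z * (d : G)⁻¹, hD d d.2⟩)
    (by
      intro a b hab
      change QuotientGroup.leftRel K a b at hab
      rw [QuotientGroup.leftRel_apply, Subgroup.mem_subgroupOf,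
        Subgroup.mem_centralizer_singleton_iff] at hab
      push_cast at hab
      refine Subtype.ext ?_
      change (a : G) * z * (a : G)⁻¹ = (b : G) * z * (b : G)⁻¹
      calc (a : G) * z * (a : G)⁻¹
          = (a : G) * (z * ((a : G)⁻¹ * b)) * (b : G)⁻¹ := by group
        _ = (b : G) * z * (b : G)⁻¹ := by rw [← hab]; group)
  have hf : Function.Bijective f := by
    refine ⟨?_, ?_⟩
    · intro p q h
      induction p using Quotient.inductionOn with | _ a => ?_
      induction q using Quotient.inductionOn with | _ b => ?_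
      have h' : (a : G) * z * (a : G)⁻¹ = (b : G) * z * (b : G)⁻¹ := congrArg Subtype.val h
      apply Quotient.sound
      change QuotientGroup.leftRel K a b
      rw [QuotientGroup.leftRel_apply, Subgroup.mem_subgroupOf,
        Subgroup.mem_centralizer_singleton_iff]
      push_cast
      calc (a : G)⁻¹ * b * z = (a : G)⁻¹ * ((b : G) * z * (b : G)⁻¹) * b := by group
        _ = z * ((a : G)⁻¹ * b) := by rw [← h']; group
    · rintro ⟨x, hx⟩
      obtain ⟨d, hd, hdx⟩ := htrans x hx
      exact ⟨QuotientGroup.mk ⟨d, hd⟩, Subtype.ext hdx⟩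
  rw [← Nat.card_eq_of_bijective f hf, ← Subgroup.index_eq_card]
  exact K.index_dvd_card

/-- A subgroup with `2835` involutions, all conjugate in it to `z`, containing `C(z)` is the whole
group if it has no subgroup of odd order divisible by `35`. -/
theorem eq_top_of_centralizer_le {G : Type*} [Group G] [Finite G] (z : G) (hz : orderOf z = 2)
    (H : Subgroup G) (hC : Subgroup.centralizer ({z} : Set G) ≤ H)
    (hI : Nat.card {x : G // x ∈ H ∧ orderOf x = 2} = 2835)
    (hone : ∀ x ∈ H, orderOf x = 2 → ∃ h ∈ H, h * z * h⁻¹ = x)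
    (hodd : ∀ D : Subgroup G, D ≤ H → Odd (Nat.card D) → ¬ 35 ∣ Nat.card D) : H = ⊤ := by
  by_contra htop
  have hzH : z ∈ H := hC (Subgroup.mem_centralizer_singleton_iff.2 rfl)
  have hH := isStronglyEmbedded_of_centralizer_le hz hC htop hone
  obtain ⟨u, hu, huH⟩ := SECount.exists_invo_not_mem hH
  refine hodd (H ⊓ H.map (MulAut.conj u).toMonoidHom) inf_le_left (hH.2.2 u huH) ?_
  refine (show 35 ∣ 2835 by norm_num).trans (hI ▸ ?_)
  refine card_dvd_of_transitive (z := z) _ (fun x => x ∈ H ∧ orderOf x = 2) (fun d hd => ?_)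
    fun x hx => ?_
  · exact ⟨H.mul_mem (H.mul_mem hd.1 hzH) (H.inv_mem hd.1),
      (SECount.orderOf_conj_eq d z).trans hz⟩
  · exact SECount.exists_conj_mem_inf hH hu huH hz hzH hx.2 hx.1

end Cfsg.Agent.Lib.UFourThreeType
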